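import Groth.Agent.SpFil.Subquot
import Mathlib.Data.Int.Interval

/-! Spectral sequence terms of a filtered complex. -/

set_option autoImplicit false
set_option backward.isDefEq.respectTransparency false

universe v u

open CategoryTheory CategoryTheory.Limits
open SpSeq SpSeq.FilCx

namespace Groth.Agent.SpFil

variable {A : Type u} [Category.{v} A] [Abelian A] (K : SpSeq.FilCx A)

theorem mem_filX_anti {p q : ℤ} (h : p ≤ q) (n : ℤ) {T : A} {x : T ⟶ K.obj.X n}
    (hx : (K.filX q n).Factors x) : (K.filX p n).Factors x :=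
  Subobject.factors_of_le _ (K.filX_anti n h) hx

theorem mem_filX_iff (p n : ℤ) {T : A} (x : T ⟶ K.obj.X n) :
    (K.filX p n).Factors x ↔ ∃ y : T ⟶ (K.fil p : CochainComplex A ℤ).X n, y ≫ (K.fil p).arrow.f n = x :=
  Subobject.mk_factors_iff _ _

theorem mem_filX_d {p n m : ℤ} {T : A} {x : T ⟶ K.obj.X n}
    (hx : (K.filX p n).Factors x) : (K.filX p m).Factors (x ≫ K.obj.d n m) := by
  obtain ⟨y, rfl⟩ := (mem_filX_iff K p n x).1 hx
  exact (mem_filX_iff K p m _).2 ⟨y ≫ (K.fil p : CochainComplex A ℤ).d n m, by simp⟩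

theorem exists_mem_Z {r : ℕ} {p n : ℤ} {T : A} {x : T ⟶ K.obj.X n} (hx : (K.ZSub r p n).Factors x) :
    ∃ (T' : A) (π : T' ⟶ T) (_ : Epi π) (w y : T' ⟶ K.obj.X n), (K.filX p n).Factors w ∧
      (K.filX (p + r) (n + 1)).Factors (w ≫ K.obj.d n (n + 1)) ∧ (K.filX (p + 1) n).Factors y ∧ π ≫ x = w + y := by
  obtain ⟨T', π, hπ, w, y, hw, hy, h⟩ := exists_mem_sup x hx
  rw [Subobject.inf_factors, factors_pullback_iff] at hw
  exact ⟨T', π, hπ, w, y, hw.1, hw.2, hy, h⟩

theorem mem_Z {r : ℕ} {p n : ℤ} {T : A} {x : T ⟶ K.obj.X n} (hx : (K.filX p n).Factors x)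
    (hd : (K.filX (p + r) (n + 1)).Factors (x ≫ K.obj.d n (n + 1))) : (K.ZSub r p n).Factors x := by
  refine mem_sup_left _ ?_
  rw [Subobject.inf_factors, factors_pullback_iff]
  exact ⟨hx, hd⟩

theorem exists_mem_B {r : ℕ} {p n : ℤ} {T : A} {x : T ⟶ K.obj.X n} (hx : (K.BSub r p n).Factors x) :
    ∃ (T' : A) (π : T' ⟶ T) (_ : Epi π) (z : T' ⟶ K.obj.X (n - 1)) (y : T' ⟶ K.obj.X n),
      (K.filX (p - r + 1) (n - 1)).Factors z ∧ (K.filX p n).Factors (z ≫ K.obj.d (n - 1) n) ∧
      (K.filX (p + 1) n).Factors y ∧ π ≫ x = z ≫ K.obj.d (n - 1) n + y := by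
  obtain ⟨T', π, hπ, w, y, hw, hy, h⟩ := exists_mem_sup x hx
  rw [Subobject.inf_factors] at hw
  obtain ⟨T'', π', hπ', z, hz, h'⟩ := exists_mem_image _ _ hw.2
  refine ⟨T'', π' ≫ π, inferInstance, z, π' ≫ y, hz, h' ▸ mem_comp _ _ hw.1, mem_comp _ _ hy, ?_⟩
  rw [Category.assoc, h, Preadditive.comp_add, h']

/-- A boundary in `F^p` coming from `F^{p-r+1}` lies in `BSub r`; the source degree is arbitrary. -/
theorem mem_B {r : ℕ} {p n q m : ℤ} (hq : p - r + 1 ≤ q) (hm : m + 1 = n) {T : A} {z : T ⟶ K.obj.X m}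
    (hz : (K.filX q m).Factors z) (hd : (K.filX p n).Factors (z ≫ K.obj.d m n)) :
    (K.BSub r p n).Factors (z ≫ K.obj.d m n) := by
  obtain rfl : m = n - 1 := by omega
  refine mem_sup_left _ ((Subobject.inf_factors _).2 ⟨hd, mem_image _ (mem_filX_anti K hq _ hz)⟩)

theorem mem_B_of_succ {r : ℕ} {p n : ℤ} {T : A} {x : T ⟶ K.obj.X n} (hx : (K.filX (p + 1) n).Factors x) :
    (K.BSub r p n).Factors x := mem_sup_right _ hx

theorem BSub_mono {r s : ℕ} (h : r ≤ s) (p n : ℤ) : K.BSub r p n ≤ K.BSub s p n := by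
  refine le_of_mem fun x hx => ?_
  obtain ⟨T', π, hπ, z, y, hz, hzd, hy, e⟩ := exists_mem_B K hx
  refine mem_of_refine _ π _ ?_
  rw [e]
  exact mem_add _ (mem_B K (by omega) (by omega) hz hzd) (mem_B_of_succ K hy)

theorem ZSub_anti {r s : ℕ} (h : r ≤ s) (p n : ℤ) : K.ZSub s p n ≤ K.ZSub r p n := by
  refine le_of_mem fun x hx => ?_
  obtain ⟨T', π, hπ, w, y, hw, hwd, hy, e⟩ := exists_mem_Z K hx
  refine mem_of_refine _ π _ ?_
  rw [e]
  exact mem_add _ (mem_Z K hw (mem_filX_anti K (by omega) _ hwd)) (mem_sup_right _ hy)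

theorem B_le_Z (r s : ℕ) (p n : ℤ) : K.BSub r p n ≤ K.ZSub s p n :=
  sup_le_sup_right (inf_le_inf_left _ (K.image_d_le_pullback n _ _)) _

section Serre

variable {P : ObjectProperty A} (hW : WeakSerre P)
include hW

/-- `Z_r / Z_{r+1}` at `(p, n)` is `B_{r+1} / B_r` at `(p + r, n + 1)`. -/
theorem P_quots (r : ℕ) (hr : ∀ p n : ℤ, P (K.E r p n)) (p n q m : ℤ) (hq : q = p + r) (hm : m = n + 1) :
    P (subquot (K.ZSub r p n) (K.ZSub (r + 1) p n) (ZSub_anti K (by omega) p n)) ∧
    P (subquot (K.BSub (r + 1) q m) (K.BSub r q m) (BSub_mono K (by omega) q m)) := by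
  subst hq hm
  let W := K.filX p n ⊓ (Subobject.pullback (K.obj.d n (n + 1))).obj (K.filX (p + r) (n + 1))
  let W' := W ⊓ K.ZSub (r + 1) p n
  have hW' : W' ≤ W := inf_le_left
  have memW : ∀ {T : A} (x : T ⟶ K.obj.X n), W.Factors x →
      (K.filX p n).Factors x ∧ (K.filX (p + r) (n + 1)).Factors (x ≫ K.obj.d n (n + 1)) := fun x hx => by
    rwa [Subobject.inf_factors, factors_pullback_iff] at hx
  have hWZ : MapsTo (𝟙 _) W (K.ZSub r p n) := mapsTo_id le_sup_left
  have hW'Z : MapsTo (𝟙 _) W' (K.ZSub (r + 1) p n) := mapsTo_id inf_le_right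
  haveI i1 : IsIso (sqMap (𝟙 _) hW' (ZSub_anti K (show r ≤ r + 1 by omega) p n) hWZ hW'Z) := by
    refine isIso_sqMap _ _ _ _ _ (fun x hx h => (Subobject.inf_factors _).2 ⟨hx, by simpa using h⟩)
      fun {T} x hx => ?_
    obtain ⟨T', π, hπ, w, y, hw, hwd, hy, e⟩ := exists_mem_Z K hx
    refine ⟨T', π, hπ, w, (Subobject.inf_factors _).2 ⟨hw, (factors_pullback_iff _ _ _).2 hwd⟩, ?_⟩
    rw [Category.comp_id, e, add_sub_cancel_left]
    exact mem_sup_right _ hy
  have hWB : MapsTo (K.obj.d n (n + 1)) W (K.BSub (r + 1) (p + r) (n + 1)) := fun x hx =>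
    mem_B K (by omega) rfl (memW x hx).1 (memW x hx).2
  have hW'B : MapsTo (K.obj.d n (n + 1)) W' (K.BSub r (p + r) (n + 1)) := fun x hx => by
    rw [Subobject.inf_factors] at hx
    obtain ⟨T', π, hπ, w, y, hw, hwd, hy, e⟩ := exists_mem_Z K hx.2
    refine mem_of_refine _ π _ ?_
    rw [← Category.assoc, e, Preadditive.add_comp]
    have hwd' : (K.filX (p + r + 1) (n + 1)).Factors (w ≫ K.obj.d n (n + 1)) :=
      mem_filX_anti K (by omega) _ hwd
    refine mem_add _ (mem_B_of_succ K hwd') (mem_B K (by omega) rfl hy ?_)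
    have hx2 := mem_comp _ π (memW _ hx.1).2
    rw [← Category.assoc, e, Preadditive.add_comp] at hx2
    simpa using mem_sub _ hx2 (mem_filX_anti K (show p + r ≤ p + r + 1 by omega) _ hwd')
  haveI i2 : IsIso (sqMap (K.obj.d n (n + 1)) hW' (BSub_mono K (show r ≤ r + 1 by omega) (p + r) (n + 1)) hWB hW'B) := by
    refine isIso_sqMap _ _ _ _ _ (fun {T} x hx h => (Subobject.inf_factors _).2 ⟨hx, ?_⟩) fun {T} x hx => ?_
    · obtain ⟨T', π, hπ, z, y, hz, hzd, hy, e⟩ := exists_mem_B K h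
      have key : ∀ (m : ℤ) (z : T' ⟶ K.obj.X m), m = n → (K.filX (p + 1) m).Factors z →
          π ≫ x ≫ K.obj.d n (n + 1) = z ≫ K.obj.d m (n + 1) + y → (K.ZSub (r + 1) p n).Factors x := by
        intro m z' hm hz' e
        subst hm
        refine mem_of_refine _ π _ ?_
        rw [← sub_add_cancel (π ≫ x) z']
        refine mem_add _ (mem_Z K (mem_sub _ (mem_comp _ _ (memW x hx).1) (mem_filX_anti K (by omega) _ hz')) ?_)
          (mem_sup_right _ hz')
        rw [Preadditive.sub_comp, Category.assoc, e, add_sub_cancel_left]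
        exact mem_filX_anti K (by omega) _ hy
      exact key _ z (by omega) (mem_filX_anti K (by omega) _ hz) e
    · obtain ⟨T', π, hπ, z, y, hz, hzd, hy, e⟩ := exists_mem_B K hx
      have key : ∀ (m : ℤ) (z : T' ⟶ K.obj.X m), m = n → (K.filX p m).Factors z →
          (K.filX (p + r) (n + 1)).Factors (z ≫ K.obj.d m (n + 1)) → π ≫ x = z ≫ K.obj.d m (n + 1) + y →
          ∃ (T'' : A) (π' : T'' ⟶ T) (_ : Epi π') (w : T'' ⟶ K.obj.X n),
            W.Factors w ∧ (K.BSub r (p + r) (n + 1)).Factors (π' ≫ x - w ≫ K.obj.d n (n + 1)) := by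
        intro m z' hm hz' hzd e
        subst hm
        refine ⟨T', π, hπ, z', (Subobject.inf_factors _).2 ⟨hz', (factors_pullback_iff _ _ _).2 hzd⟩, ?_⟩
        rw [e, add_sub_cancel_left]
        exact mem_B_of_succ K hy
      exact key _ z (by omega) (mem_filX_anti K (by omega) _ hz) hzd e
  have eQ : subquot (K.ZSub r p n) (K.ZSub (r + 1) p n) (ZSub_anti K (by omega) p n) ≅
      subquot (K.BSub (r + 1) (p + r) (n + 1)) (K.BSub r (p + r) (n + 1))
        (BSub_mono K (by omega) (p + r) (n + 1)) :=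
    (asIso (sqMap (𝟙 _) hW' (ZSub_anti K (show r ≤ r + 1 by omega) p n) hWZ hW'Z)).symm ≪≫
      asIso (sqMap (K.obj.d n (n + 1)) hW' (BSub_mono K (show r ≤ r + 1 by omega) (p + r) (n + 1)) hWB hW'B)
  obtain ⟨w₁, s₁⟩ := third_iso (B_le_Z K r (r + 1) p n) (ZSub_anti K (show r ≤ r + 1 by omega) p n)
  obtain ⟨w₂, s₂⟩ := third_iso (BSub_mono K (show r ≤ r + 1 by omega) (p + r) (n + 1))
    (B_le_Z K (r + 1) r (p + r) (n + 1))
  haveI := s₁.epi_g
  haveI := s₂.mono_f
  have hQ := hW.sub_and_quot (sqMap (𝟙 _) (B_le_Z K r r p n) (ZSub_anti K (show r ≤ r + 1 by omega) p n)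
      (mapsTo_id le_rfl) (mapsTo_id (B_le_Z K r (r + 1) p n)))
    (eQ.hom ≫ sqMap (𝟙 _) (BSub_mono K (show r ≤ r + 1 by omega) (p + r) (n + 1)) (B_le_Z K r r (p + r) (n + 1))
      (mapsTo_id (B_le_Z K (r + 1) r (p + r) (n + 1))) (mapsTo_id le_rfl))
    s₁.epi_g (mono_comp' inferInstance s₂.mono_f) (hr p n) (hr (p + r) (n + 1))
  exact ⟨hQ, hW.iso eQ hQ⟩

theorem P_succ (r : ℕ) (hr : ∀ p n : ℤ, P (K.E r p n)) (p n : ℤ) : P (K.E (r + 1) p n) := by
  obtain ⟨w₁, s₁⟩ := third_iso (B_le_Z K r (r + 1) p n) (ZSub_anti K (show r ≤ r + 1 by omega) p n)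
  have h1 := hW.ker _ s₁ (hr p n) (P_quots K hW r hr p n _ _ rfl rfl).1
  have h2 := (P_quots K hW r hr (p - r) (n - 1) p n (by omega) (by omega)).2
  obtain ⟨w₂, s₂⟩ := third_iso (BSub_mono K (show r ≤ r + 1 by omega) p n) (B_le_Z K (r + 1) (r + 1) p n)
  exact hW.coker _ s₂ h2 h1

theorem P_of_le {r s : ℕ} (h : r ≤ s) (hr : ∀ p n : ℤ, P (K.E r p n)) : ∀ p n : ℤ, P (K.E s p n) := by
  induction s, h using Nat.le_induction with
  | base => exact hr
  | succ s _ ih => exact P_succ K hW s ih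

end Serre

/-- The filtration of the cycles containing the boundaries. -/
noncomputable def G (p n : ℤ) : Subobject (K.obj.X n) :=
  (K.filX p n ⊓ kernelSubobject (K.obj.d n (n + 1))) ⊔ imageSubobject (K.obj.d (n - 1) n)

theorem Im_le_G (p n : ℤ) : imageSubobject (K.obj.d (n - 1) n) ≤ G K p n := le_sup_right

theorem G_anti (n : ℤ) {p q : ℤ} (h : p ≤ q) : G K q n ≤ G K p n :=
  sup_le_sup_right (inf_le_inf_right _ (K.filX_anti n h)) _

theorem BBot_le_ZTop (p n : ℤ) : K.BBot p n ≤ K.ZTop p n :=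
  sup_le_sup_right (inf_le_inf_left _ (le_kernelSubobject _ _ (imageSubobject_arrow_comp_eq_zero (by simp)))) _

/-- `gr` of the filtration of the cycles is `ZTop / BBot`. -/
theorem nonempty_grIso (p n : ℤ) :
    Nonempty (subquot (K.ZTop p n) (K.BBot p n) (BBot_le_ZTop K p n) ≅
      subquot (G K p n) (G K (p + 1) n) (G_anti K n (Int.le_add_one le_rfl))) := by
  let W := K.filX p n ⊓ kernelSubobject (K.obj.d n (n + 1))
  let W' := W ⊓ K.BBot p n
  have hW' : W' ≤ W := inf_le_left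
  have hWZ : MapsTo (𝟙 _) W (K.ZTop p n) := mapsTo_id le_sup_left
  have hW'B : MapsTo (𝟙 _) W' (K.BBot p n) := mapsTo_id inf_le_right
  have hWG : MapsTo (𝟙 _) W (G K p n) := mapsTo_id le_sup_left
  have hW'G : MapsTo (𝟙 _) W' (G K (p + 1) n) := mapsTo_id (le_of_mem fun x hx => by
    rw [Subobject.inf_factors] at hx
    obtain ⟨T', π, hπ, a, b, ha, hb, e⟩ := exists_mem_sup x hx.2
    rw [Subobject.inf_factors] at ha
    refine mem_of_refine _ π _ ?_
    rw [e, add_comm a b]
    refine mem_add _ (mem_sup_left _ ((Subobject.inf_factors _).2 ⟨hb, ?_⟩)) (mem_sup_right _ ha.2)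
    rw [show b = π ≫ x - a by rw [e, add_sub_cancel_left]]
    exact mem_sub _ (mem_comp _ _ ((Subobject.inf_factors _).1 hx.1).2) (Subobject.factors_of_le _
      (le_kernelSubobject _ _ (imageSubobject_arrow_comp_eq_zero (by simp))) ha.2))
  haveI i1 : IsIso (sqMap (𝟙 _) hW' (BBot_le_ZTop K p n) hWZ hW'B) := by
    refine isIso_sqMap _ _ _ _ _ (fun x hx h => (Subobject.inf_factors _).2 ⟨hx, by simpa using h⟩)
      fun {T} x hx => ?_
    obtain ⟨T', π, hπ, w, y, hw, hy, e⟩ := exists_mem_sup x hx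
    refine ⟨T', π, hπ, w, hw, ?_⟩
    rw [Category.comp_id, e, add_sub_cancel_left]
    exact mem_sup_right _ hy
  haveI i2 : IsIso (sqMap (𝟙 _) hW' (G_anti K n (show p ≤ p + 1 by omega)) hWG hW'G) := by
    refine isIso_sqMap _ _ _ _ _ (fun {T} x hx h => (Subobject.inf_factors _).2 ⟨hx, ?_⟩) fun {T} x hx => ?_
    · rw [Category.comp_id] at h
      obtain ⟨T', π, hπ, a, b, ha, hb, e⟩ := exists_mem_sup x h
      rw [Subobject.inf_factors] at ha
      refine mem_of_refine _ π _ ?_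
      rw [e, add_comm a b]
      refine mem_add _ (mem_sup_left _ ((Subobject.inf_factors _).2 ⟨?_, hb⟩)) (mem_sup_right _ ha.1)
      rw [show b = π ≫ x - a by rw [e, add_sub_cancel_left]]
      exact mem_sub _ (mem_comp _ _ ((Subobject.inf_factors _).1 hx).1) (mem_filX_anti K (by omega) _ ha.1)
    · obtain ⟨T', π, hπ, w, y, hw, hy, e⟩ := exists_mem_sup x hx
      refine ⟨T', π, hπ, w, hw, ?_⟩
      rw [Category.comp_id, e, add_sub_cancel_left]
      exact mem_sup_right _ hy
  exact ⟨(asIso (sqMap (𝟙 _) hW' (BBot_le_ZTop K p n) hWZ hW'B)).symm ≪≫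
    asIso (sqMap (𝟙 _) hW' (G_anti K n (show p ≤ p + 1 by omega)) hWG hW'G)⟩

/-- Homology as a subquotient. -/
theorem nonempty_homologyIso_sc (S : ShortComplex A) (h : imageSubobject S.f ≤ kernelSubobject S.g) :
    Nonempty (subquot (kernelSubobject S.g) (imageSubobject S.f) h ≅ S.homology) := by
  have hc : (imageSubobject S.f).ofLE (kernelSubobject S.g) h ≫
      S.liftCycles (kernelSubobject S.g).arrow (kernelSubobject_arrow_comp _) ≫ S.homologyπ = 0 := by
    rw [← Category.assoc, S.comp_liftCycles, S.liftCycles_comp_homologyπ_eq_zero_iff_up_to_refinements]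
    obtain ⟨T', π, hπ, y, hy⟩ := exists_lift_image S.f ((imageSubobject S.f).ofLE _ h ≫ (kernelSubobject S.g).arrow)
      (by rw [Subobject.ofLE_arrow]; exact Subobject.factors_self _)
    exact ⟨T', π, hπ, y, hy⟩
  let θ : subquot (kernelSubobject S.g) (imageSubobject S.f) h ⟶ S.homology := cokernel.desc _ _ hc
  have hθ : sqProj h ≫ θ = S.liftCycles (kernelSubobject S.g).arrow (kernelSubobject_arrow_comp _) ≫ S.homologyπ :=
    cokernel.π_desc _ _ _
  haveI : Mono θ := by
    rw [Preadditive.mono_iff_cancel_zero]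
    intro T t ht
    obtain ⟨T', π, hπ, z, hz⟩ := surjective_up_to_refinements_of_epi (sqProj h) t
    have h1 : (z ≫ S.liftCycles (kernelSubobject S.g).arrow (kernelSubobject_arrow_comp _)) ≫ S.homologyπ = 0 := by
      rw [Category.assoc, ← hθ]
      exact (Category.assoc z (sqProj h) θ).symm.trans ((congrArg (· ≫ θ) hz).symm.trans (by
        rw [Category.assoc, ht, comp_zero]))
    rw [S.comp_liftCycles, S.liftCycles_comp_homologyπ_eq_zero_iff_up_to_refinements] at h1
    obtain ⟨T'', π', hπ', y, hy⟩ := h1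
    have h2 : z ≫ sqProj h = 0 := (sqProj_eq_zero_iff h z).2 (mem_of_refine _ π' _ (by
      rw [hy]; exact mem_comp _ _ ((image_le_iff _ _).1 le_rfl)))
    exact (cancel_epi π).1 (hz.trans (h2.trans comp_zero.symm))
  haveI : Epi θ := by
    rw [epi_iff_surjective_up_to_refinements]
    intro T t
    obtain ⟨T', π, hπ, z, hz, e⟩ := S.eq_liftCycles_homologyπ_up_to_refinements t
    refine ⟨T', π, hπ, (kernelSubobject S.g).factorThru z (mem_kernel.2 hz) ≫ sqProj h, ?_⟩
    rw [e, Category.assoc, hθ, ← Category.assoc _ _ S.homologyπ, S.comp_liftCycles]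
    simp [Subobject.factorThru_arrow]
  haveI := isIso_of_mono_of_epi θ
  exact ⟨asIso θ⟩

/-- Homology of a complex as a subquotient. -/
theorem nonempty_homologyIso (n : ℤ) (h : imageSubobject (K.obj.d (n - 1) n) ≤ kernelSubobject (K.obj.d n (n + 1))) :
    Nonempty (subquot (kernelSubobject (K.obj.d n (n + 1))) (imageSubobject (K.obj.d (n - 1) n)) h ≅
      K.obj.homology n) := by
  obtain ⟨e⟩ := nonempty_homologyIso_sc (K.obj.sc' (n - 1) n (n + 1)) h
  exact ⟨e ≪≫ (ShortComplex.homologyMapIso (K.obj.isoSc' (n - 1) n (n + 1) (by simp) (by simp))).symm⟩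

theorem homology_mem (hK : ∀ n : ℤ, (K.XFil n).IsFinite) {P : ObjectProperty A} (hW : WeakSerre P) (r : ℕ)
    (hr : ∀ p n : ℤ, P (K.E r p n)) (n : ℤ) : P (K.obj.homology n) := by
  choose a ha using fun n => (hK n).1
  choose b hb using fun n => (hK n).2
  have hgr : ∀ p, P (subquot (G K p n) (G K (p + 1) n) (G_anti K n (Int.le_add_one le_rfl))) := by
    intro p
    obtain ⟨e⟩ := nonempty_grIso K p n
    refine hW.iso e ?_
    let R := max r (max (b (n + 1) - p).toNat (p + 1 - a (n - 1)).toNat)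
    have hZ : K.ZSub R p n = K.ZTop p n := by
      refine le_antisymm (le_of_mem fun x hx => ?_) (le_of_mem fun x hx => ?_)
      · obtain ⟨T', π, hπ, w, y, hw, hwd, hy, e⟩ := exists_mem_Z K hx
        refine mem_of_refine _ π _ ?_
        rw [e]
        refine mem_add _ (mem_sup_left _ ((Subobject.inf_factors _).2 ⟨hw, mem_kernel.2 ?_⟩)) (mem_sup_right _ hy)
        refine mem_bot (Subobject.factors_of_le _ ?_ hwd)
        exact (K.filX_anti (n + 1) (show b (n + 1) ≤ p + R by omega)).trans (hb (n + 1)).le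
      · obtain ⟨T', π, hπ, w, y, hw, hy, e⟩ := exists_mem_sup x hx
        rw [Subobject.inf_factors, mem_kernel] at hw
        refine mem_of_refine _ π _ ?_
        rw [e]
        exact mem_add _ (mem_Z K hw.1 (by rw [hw.2]; exact Subobject.factors_zero)) (mem_sup_right _ hy)
    have hB : K.BSub R p n = K.BBot p n := by
      refine le_antisymm (sup_le_sup_right (inf_le_inf_left _ (imageSubobject_comp_le _ _)) _)
        (le_of_mem fun x hx => ?_)
      obtain ⟨T', π, hπ, w, y, hw, hy, e⟩ := exists_mem_sup x hx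
      rw [Subobject.inf_factors] at hw
      obtain ⟨T'', π', hπ', z, hz⟩ := exists_lift_image _ _ hw.2
      refine mem_of_refine _ (π' ≫ π) _ ?_
      rw [Category.assoc, e, Preadditive.comp_add, hz]
      refine mem_add _ (mem_B K (le_refl (p - R + 1)) (by omega) ?_ (hz ▸ mem_comp _ _ hw.1))
        (mem_comp _ _ (mem_B_of_succ K hy))
      have : K.filX (p - R + 1) (n - 1) = ⊤ :=
        top_le_iff.1 ((ha (n - 1)).ge.trans (K.filX_anti (n - 1) (show p - R + 1 ≤ a (n - 1) by omega)))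
      rw [this]
      exact Subobject.top_factors _
    have := P_of_le K hW (show r ≤ R from le_max_left _ _) hr p n
    have gen : ∀ (Z B : Subobject (K.obj.X n)) (h : B ≤ Z), Z = K.ZTop p n → B = K.BBot p n →
        P (subquot Z B h) → P (subquot (K.ZTop p n) (K.BBot p n) (BBot_le_ZTop K p n)) := by
      intro Z B h hZ hB hP
      subst hZ hB
      exact hP
    exact gen _ _ _ hZ hB this
  have hb' : P (subquot (G K (b n) n) (imageSubobject (K.obj.d (n - 1) n)) (Im_le_G K (b n) n)) := by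
    refine hW.zero _ ((isZero_subquot_iff _).2 (sup_le ?_ le_rfl))
    exact inf_le_left.trans ((hb n).le.trans bot_le)
  have hall : ∀ p, p ≤ b n → P (subquot (G K p n) (imageSubobject (K.obj.d (n - 1) n)) (Im_le_G K p n)) := by
    intro p hp
    induction p, hp using Int.leInductionDown with
    | base => exact hb'
    | pred p hp ih =>
      obtain ⟨w, s⟩ := third_iso (Im_le_G K p n) (G_anti K n (show p - 1 ≤ p by omega))
      refine hW.ext _ s ih ?_
      have := hgr (p - 1)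
      have gen : ∀ q (hq : p - 1 ≤ q), q = p - 1 + 1 → P (subquot (G K (p - 1) n) (G K q n) (G_anti K n hq)) := by
        intro q hq e
        subst e
        exact this
      exact gen p (by omega) (by omega)
  have hker : G K (min (a n) (b n)) n = kernelSubobject (K.obj.d n (n + 1)) := by
    refine le_antisymm (sup_le inf_le_right (le_kernelSubobject _ _ (imageSubobject_arrow_comp_eq_zero (by simp))))
      (le_sup_of_le_left (le_inf ?_ le_rfl))
    exact le_top.trans ((ha n).ge.trans (K.filX_anti n (min_le_left _ _)))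
  have h := hall _ (min_le_right (a n) (b n))
  have hle : imageSubobject (K.obj.d (n - 1) n) ≤ kernelSubobject (K.obj.d n (n + 1)) :=
    le_kernelSubobject _ _ (imageSubobject_arrow_comp_eq_zero (by simp))
  obtain ⟨e⟩ := nonempty_homologyIso K n hle
  refine hW.iso e ?_
  have gen : ∀ (Z : Subobject (K.obj.X n)) (hZ : imageSubobject (K.obj.d (n - 1) n) ≤ Z),
      Z = kernelSubobject (K.obj.d n (n + 1)) → P (subquot Z _ hZ) → P (subquot _ _ hle) := by
    intro Z hZ e hP
    subst e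
    exact hP
  exact gen _ _ hker h

end Groth.Agent.SpFil
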