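import Groth.Agent.SpFil.FilCx
import Mathlib.Algebra.Homology.QuasiIso
import Mathlib.Algebra.Homology.ShortComplex.QuasiIso

/-! Convergence of the spectral sequence of a filtered complex with eventually trivial homology. -/

set_option autoImplicit false
set_option backward.isDefEq.respectTransparency false

universe v u

open CategoryTheory CategoryTheory.Limits
open SpSeq SpSeq.FilCx

namespace Groth.Agent.SpFil

variable {A : Type u} [Category.{v} A] [Abelian A] (K : SpSeq.FilCx A)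

/-- A cycle in `F^p` is the differential of an element of `F^p` when `H(F^p) = 0`. -/
theorem exists_boundary_of_isZero {p n : ℤ} (h : IsZero ((K.fil p : CochainComplex A ℤ).homology n))
    {T : A} {x : T ⟶ K.obj.X n} (hx : (K.filX p n).Factors x) (hd : x ≫ K.obj.d n (n + 1) = 0) :
    ∃ (T' : A) (π : T' ⟶ T) (_ : Epi π) (z : T' ⟶ K.obj.X (n - 1)),
      (K.filX p (n - 1)).Factors z ∧ π ≫ x = z ≫ K.obj.d (n - 1) n := by
  obtain ⟨y, rfl⟩ := (mem_filX_iff K p n x).1 hx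
  have he : ((K.fil p : CochainComplex A ℤ).sc' (n - 1) n (n + 1)).Exact := by
    rw [← HomologicalComplex.exactAt_iff' _ (n - 1) n (n + 1) (by simp) (by simp),
      HomologicalComplex.exactAt_iff_isZero_homology]
    exact h
  obtain ⟨T', π, hπ, z, hz⟩ := he.exact_up_to_refinements y (by
    have := (Category.assoc y ((K.fil p).arrow.f n) (K.obj.d n (n + 1))).symm.trans hd
    rw [HomologicalComplex.Hom.comm, ← Category.assoc] at this
    have hthis := this
    change y ≫ (K.fil p : CochainComplex A ℤ).d n (n + 1) = 0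
    haveI : Mono ((K.fil p).arrow.f (n + 1)) := inferInstance
    exact (cancel_mono ((K.fil p).arrow.f (n + 1))).1 (hthis.trans zero_comp.symm))
  refine ⟨T', π, hπ, z ≫ (K.fil p).arrow.f (n - 1), (mem_filX_iff K p _ _).2 ⟨z, rfl⟩, ?_⟩
  rw [← Category.assoc, hz]
  change (z ≫ (K.fil p : CochainComplex A ℤ).d (n - 1) n) ≫ _ = _
  rw [Category.assoc, Category.assoc, HomologicalComplex.Hom.comm]

/-- A cycle in `F^p` which is a boundary in `K` is a boundary in `F^p` when `H(F^p) → H(K)` is injective. -/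
theorem exists_boundary_of_mono {p n : ℤ} (h : IsIso (HomologicalComplex.homologyMap (K.fil p).arrow n))
    {T : A} {x : T ⟶ K.obj.X n} (hx : (K.filX p n).Factors x) (w : T ⟶ K.obj.X (n - 1))
    (hw : x = w ≫ K.obj.d (n - 1) n) :
    ∃ (T' : A) (π : T' ⟶ T) (_ : Epi π) (z : T' ⟶ K.obj.X (n - 1)),
      (K.filX p (n - 1)).Factors z ∧ π ≫ x = z ≫ K.obj.d (n - 1) n := by
  obtain ⟨y, rfl⟩ := (mem_filX_iff K p n x).1 hx
  let φ := (HomologicalComplex.shortComplexFunctor' A _ (n - 1) n (n + 1)).map (K.fil p).arrow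
  haveI : Mono (ShortComplex.homologyMap φ) := by
    have : QuasiIsoAt (K.fil p).arrow n := (quasiIsoAt_iff_isIso_homologyMap _ _).2 h
    rw [quasiIsoAt_iff' _ (n - 1) n (n + 1) (by simp) (by simp)] at this
    exact (show IsIso (ShortComplex.homologyMap φ) from this.isIso).mono_of_iso
  obtain ⟨T', π, hπ, z, hz⟩ := (ShortComplex.mono_homologyMap_iff_up_to_refinements φ).1 inferInstance y (by
    haveI : Mono ((K.fil p).arrow.f (n + 1)) := inferInstance
    change y ≫ (K.fil p : CochainComplex A ℤ).d n (n + 1) = 0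
    refine (cancel_mono ((K.fil p).arrow.f (n + 1))).1 ?_
    rw [Category.assoc, ← HomologicalComplex.Hom.comm, ← Category.assoc, hw, Category.assoc,
      HomologicalComplex.d_comp_d, comp_zero, zero_comp]) w hw
  refine ⟨T', π, hπ, z ≫ (K.fil p).arrow.f (n - 1), (mem_filX_iff K p _ _).2 ⟨z, rfl⟩, ?_⟩
  rw [← Category.assoc, hz]
  change (z ≫ (K.fil p : CochainComplex A ℤ).d (n - 1) n) ≫ _ = _
  rw [Category.assoc, Category.assoc, HomologicalComplex.Hom.comm]

/-- Every cycle of `K` is a cycle in `F^p` plus a boundary when `H(F^p) → H(K)` is surjective. -/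
theorem exists_cycle_of_epi {p n : ℤ} (h : IsIso (HomologicalComplex.homologyMap (K.fil p).arrow n))
    {T : A} {x : T ⟶ K.obj.X n} (hd : x ≫ K.obj.d n (n + 1) = 0) :
    ∃ (T' : A) (π : T' ⟶ T) (_ : Epi π) (c : T' ⟶ K.obj.X n) (w : T' ⟶ K.obj.X (n - 1)),
      (K.filX p n).Factors c ∧ c ≫ K.obj.d n (n + 1) = 0 ∧ π ≫ x = c + w ≫ K.obj.d (n - 1) n := by
  let φ := (HomologicalComplex.shortComplexFunctor' A _ (n - 1) n (n + 1)).map (K.fil p).arrow
  haveI : Epi (ShortComplex.homologyMap φ) := by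
    have : QuasiIsoAt (K.fil p).arrow n := (quasiIsoAt_iff_isIso_homologyMap _ _).2 h
    rw [quasiIsoAt_iff' _ (n - 1) n (n + 1) (by simp) (by simp)] at this
    exact (show IsIso (ShortComplex.homologyMap φ) from this.isIso).epi_of_iso
  obtain ⟨T', π, hπ, c, hc, w, e⟩ := (ShortComplex.epi_homologyMap_iff_up_to_refinements φ).1 inferInstance x hd
  refine ⟨T', π, hπ, c ≫ (K.fil p).arrow.f n, w, (mem_filX_iff K p _ _).2 ⟨c, rfl⟩, ?_, e⟩
  rw [Category.assoc, HomologicalComplex.Hom.comm, ← Category.assoc]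
  change (c ≫ (K.fil p : CochainComplex A ℤ).d n (n + 1)) ≫ _ = _
  rw [show c ≫ (K.fil p : CochainComplex A ℤ).d n (n + 1) = 0 from hc, zero_comp]

variable (p₀ p₁ : ℤ → ℤ)
  (h0 : ∀ n p, p₀ n ≤ p → IsZero ((K.fil p : CochainComplex A ℤ).homology n))
  (h1 : ∀ n p, p ≤ p₁ n → IsIso (HomologicalComplex.homologyMap (K.fil p).arrow n))

include h0 in
theorem ZSub_eq {r : ℕ} {p n : ℤ} (hr : 1 ≤ r) (h : p₀ (n + 1) ≤ p + r) : K.ZSub r p n = K.ZTop p n := by
  refine le_antisymm (le_of_mem fun x hx => ?_) (le_of_mem fun x hx => ?_)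
  · obtain ⟨T', π, hπ, w, y, hw, hwd, hy, e⟩ := exists_mem_Z K hx
    obtain ⟨T'', π', hπ', z, hz, hzw⟩ := exists_boundary_of_isZero K (h0 (n + 1) _ h) hwd (by simp)
    have key : ∀ (m : ℤ) (z : T'' ⟶ K.obj.X m), m = n → (K.filX (p + 1) m).Factors z →
        π' ≫ w ≫ K.obj.d n (n + 1) = z ≫ K.obj.d m (n + 1) → (K.ZTop p n).Factors (π' ≫ π ≫ x) := by
      intro m z' hm hz' hzw
      subst hm
      rw [e, Preadditive.comp_add, ← sub_add_cancel (π' ≫ w) z', add_assoc]
      refine mem_add _ (mem_sup_left _ ((Subobject.inf_factors _).2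
        ⟨mem_sub _ (mem_comp _ _ hw) (mem_filX_anti K (by omega) _ hz'), mem_kernel.2 ?_⟩))
        (mem_sup_right _ (mem_add _ hz' (mem_comp _ _ hy)))
      rw [Preadditive.sub_comp, Category.assoc, hzw, sub_self]
    exact mem_of_refine _ (π' ≫ π) _ (by
      rw [Category.assoc]; exact key _ z (by omega) (mem_filX_anti K (by omega) _ hz) hzw)
  · obtain ⟨T', π, hπ, w, y, hw, hy, e⟩ := exists_mem_sup x hx
    rw [Subobject.inf_factors, mem_kernel] at hw
    refine mem_of_refine _ π _ ?_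
    rw [e]
    exact mem_add _ (mem_Z K hw.1 (by rw [hw.2]; exact Subobject.factors_zero)) (mem_sup_right _ hy)

include h1 in
theorem BSub_eq {r : ℕ} {p n : ℤ} (hr : 1 ≤ r) (h : p - r + 1 ≤ p₁ n) : K.BSub r p n = K.BBot p n := by
  refine le_antisymm (sup_le_sup_right (inf_le_inf_left _ (imageSubobject_comp_le _ _)) _)
    (le_of_mem fun x hx => ?_)
  obtain ⟨T', π, hπ, w, y, hw, hy, e⟩ := exists_mem_sup x hx
  rw [Subobject.inf_factors] at hw
  obtain ⟨T'', π', hπ', u, hu⟩ := exists_lift_image _ _ hw.2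
  obtain ⟨T₃, π₃, hπ₃, z, hz, hzw⟩ := exists_boundary_of_mono K (h1 n _ h)
    (mem_filX_anti K (show p - r + 1 ≤ p by omega) _ (mem_comp _ π' hw.1)) u hu
  refine mem_of_refine _ (π₃ ≫ π' ≫ π) _ ?_
  rw [Category.assoc, Category.assoc, e, Preadditive.comp_add, Preadditive.comp_add, hzw]
  exact mem_add _ (mem_B K le_rfl (by omega) hz (hzw ▸ mem_comp _ _ (mem_comp _ _ hw.1)))
    (mem_comp _ _ (mem_comp _ _ (mem_B_of_succ K hy)))

include h0 in
theorem isZero_E_one_high {p n : ℤ} (h : p₀ n ≤ p) (h' : p₀ (n + 1) ≤ p + 1) : IsZero (K.E 1 p n) := by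
  refine (isZero_subquot_iff _).2 (le_of_mem fun x hx => ?_)
  rw [ZSub_eq K p₀ h0 le_rfl (by simpa using h')] at hx
  obtain ⟨T', π, hπ, w, y, hw, hy, e⟩ := exists_mem_sup x hx
  rw [Subobject.inf_factors, mem_kernel] at hw
  obtain ⟨T'', π', hπ', z, hz, hzw⟩ := exists_boundary_of_isZero K (h0 n p h) hw.1 hw.2
  refine mem_of_refine _ (π' ≫ π) _ ?_
  rw [Category.assoc, e, Preadditive.comp_add, hzw]
  exact mem_add _ (mem_B K (by omega) (by omega) hz (hzw ▸ mem_comp _ _ hw.1))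
    (mem_comp _ _ (mem_B_of_succ K hy))

include h1 in
theorem isZero_E_one_low {p n : ℤ} (h : p + 1 ≤ p₁ n) (h' : p + 1 ≤ p₁ (n + 1)) : IsZero (K.E 1 p n) := by
  refine (isZero_subquot_iff _).2 (le_of_mem fun x hx => ?_)
  obtain ⟨T', π, hπ, w, y, hw, hwd, hy, e⟩ := exists_mem_Z K hx
  have key : ∀ (m : ℤ) (v : T' ⟶ K.obj.X m), m = n → (K.filX p m).Factors v →
      ∀ (u : T' ⟶ K.obj.X (n + 1)), u = v ≫ K.obj.d m (n + 1) → (K.filX (p + 1) (n + 1)).Factors u →
      ∃ (T'' : A) (π' : T'' ⟶ T') (_ : Epi π') (z : T'' ⟶ K.obj.X (n + 1 - 1)),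
        (K.filX (p + 1) (n + 1 - 1)).Factors z ∧ π' ≫ u = z ≫ K.obj.d (n + 1 - 1) (n + 1) := by
    intro m v hm hv u hu hu'
    obtain rfl : m = n + 1 - 1 := by omega
    exact exists_boundary_of_mono K (h1 (n + 1) _ h') hu' v hu
  obtain ⟨T'', π', hπ', z, hz, hzw⟩ := key n w rfl hw _ rfl (mem_filX_anti K (by omega) _ hwd)
  have key2 : ∀ (m : ℤ) (z : T'' ⟶ K.obj.X m), m = n → (K.filX (p + 1) m).Factors z →
      π' ≫ w ≫ K.obj.d n (n + 1) = z ≫ K.obj.d m (n + 1) →
      (K.BSub 1 p n).Factors (π' ≫ π ≫ x) := by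
    intro m z' hm hz' hzw
    subst hm
    obtain ⟨T₃, π₃, hπ₃, c, v, hc, hcd, e3⟩ := exists_cycle_of_epi K (x := π' ≫ w - z') (h1 m (p + 1) h)
      (by rw [Preadditive.sub_comp, Category.assoc, hzw, sub_self])
    have hv : (K.filX p m).Factors (v ≫ K.obj.d (m - 1) m) := by
      rw [show v ≫ K.obj.d (m - 1) m = π₃ ≫ (π' ≫ w - z') - c by rw [e3, add_sub_cancel_left]]
      exact mem_sub _ (mem_comp _ _ (mem_sub _ (mem_comp _ _ hw) (mem_filX_anti K (by omega) _ hz')))
        (mem_filX_anti K (by omega) _ hc)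
    obtain ⟨T₄, π₄, hπ₄, v', hv', hvv⟩ := exists_boundary_of_mono K (h1 m p (by omega)) hv v rfl
    refine mem_of_refine _ (π₄ ≫ π₃) _ ?_
    rw [e, show π' ≫ (w + y) = (π' ≫ w - z') + (z' + π' ≫ y) by rw [Preadditive.comp_add]; abel,
      Category.assoc, Preadditive.comp_add _ _ _ π₃, e3, Preadditive.comp_add _ _ _ π₄, Preadditive.comp_add _ _ _ π₄ c, hvv]
    refine mem_add _ (mem_add _ (mem_B_of_succ K (mem_comp _ _ hc)) (mem_B K (by omega) (by omega) hv' ?_))
      (mem_B_of_succ K (mem_comp _ _ (mem_comp _ _ (mem_add _ hz' (mem_comp _ _ hy)))))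
    exact hvv ▸ mem_comp _ _ hv
  exact mem_of_refine _ (π' ≫ π) _ (by rw [Category.assoc]; exact key2 _ z (by omega) (mem_filX_anti K le_rfl _ hz) hzw)

theorem converges (h0' : ∀ n : ℤ, ∃ p₀ : ℤ, ∀ p : ℤ, p₀ ≤ p → IsZero ((K.fil p : CochainComplex A ℤ).homology n))
    (h1' : ∀ n : ℤ, ∃ p₁ : ℤ, ∀ p : ℤ, p ≤ p₁ → IsIso (HomologicalComplex.homologyMap (K.fil p).arrow n)) :
    K.IsBounded 1 ∧ (∀ n : ℤ, (K.HFil n).IsFinite) ∧ K.Converges := by
  choose p₀ h0 using h0'
  choose p₁ h1 using h1'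
  have hfin : ∀ n, (K.HFil n).IsFinite := by
    intro n
    refine ⟨⟨p₁ n, ?_⟩, ⟨p₀ n, ?_⟩⟩
    · have := h1 n (p₁ n) le_rfl
      show imageSubobject (HomologicalComplex.homologyMap (K.fil (p₁ n)).arrow n) = ⊤
      haveI : Epi (imageSubobject (HomologicalComplex.homologyMap (K.fil (p₁ n)).arrow n)).arrow :=
        epi_of_epi_fac (imageSubobject_arrow_comp (HomologicalComplex.homologyMap (K.fil (p₁ n)).arrow n))
      haveI := isIso_of_mono_of_epi (imageSubobject (HomologicalComplex.homologyMap (K.fil (p₁ n)).arrow n)).arrow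
      exact Subobject.eq_top_of_isIso_arrow _
    · show imageSubobject (HomologicalComplex.homologyMap (K.fil (p₀ n)).arrow n) = ⊥
      rw [(h0 n _ le_rfl).eq_of_src (HomologicalComplex.homologyMap (K.fil (p₀ n)).arrow n) 0, imageSubobject_zero]
  refine ⟨fun n => (Set.finite_Icc (min (p₁ n) (p₁ (n + 1)) - 1) (max (p₀ n) (p₀ (n + 1)))).subset fun p hp => ?_,
    hfin, ?_, ⟨?_, fun n => ?_⟩, fun n => ?_⟩
  · by_contra h
    apply hp
    rw [Set.mem_Icc, not_and_or, not_le, not_le] at h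
    obtain h | h := h
    · exact isZero_E_one_low K p₁ h1 (by omega) (by omega)
    · exact isZero_E_one_high K p₀ h0 (by omega) (by omega)
  · intro p n
    refine ⟨(p₀ (n + 1) - p).toNat + 1, fun r hr => ?_⟩
    rw [ZSub_eq K p₀ h0 (by omega) (by omega), ZSub_eq K p₀ h0 (by omega) (by omega)]
  · refine fun p n => ⟨IsLeast.isGLB ⟨⟨(p₀ (n + 1) - p).toNat + 1, ZSub_eq K p₀ h0 (by omega) (by omega)⟩, ?_⟩,
      IsGreatest.isLUB ⟨⟨(p + 1 - p₁ n).toNat + 1, BSub_eq K p₁ h1 (by omega) (by omega)⟩, ?_⟩⟩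
    · rintro _ ⟨r, rfl⟩
      exact sup_le_sup_right (inf_le_inf_left _ (kernelSubobject_le_pullback _ _)) _
    · rintro _ ⟨r, rfl⟩
      exact sup_le_sup_right (inf_le_inf_left _ (imageSubobject_comp_le _ _)) _
  · obtain ⟨⟨a', ha''⟩, ⟨b', hb''⟩⟩ := hfin n
    exact ⟨IsLeast.isGLB ⟨⟨b', hb''⟩, fun _ _ => bot_le⟩, IsGreatest.isLUB ⟨⟨a', ha''⟩, fun _ _ => le_top⟩⟩
  · intro T f hf
    obtain ⟨q0, hq0⟩ := (hfin n).2
    have hiso : ∀ q, q0 ≤ q → IsIso (Limits.cokernel.π ((K.HFil n).fil q).arrow) := fun q hq => by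
      have : (K.HFil n).fil q = ⊥ := le_bot_iff.1 (((K.HFil n).anti hq).trans hq0.le)
      have hz : ((K.HFil n).fil q).arrow = 0 := by rw [this, Subobject.bot_arrow]
      refine ⟨cokernel.desc _ (𝟙 _) (by rw [hz, zero_comp]), cokernel.π_desc _ _ _, coequalizer.hom_ext ?_⟩
      exact (cokernel.π_desc_assoc _ _ _ _).trans ((Category.id_comp _).trans (Category.comp_id _).symm)
    have hπ : ∀ {p q : ℤ} (h : p ≤ q), Limits.cokernel.π ((K.HFil n).fil q).arrow ≫
        (K.HFil n).quotMap h = Limits.cokernel.π ((K.HFil n).fil p).arrow :=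
      fun h => Limits.cokernel.π_desc _ _ _
    have := hiso q0 le_rfl
    refine ⟨f q0 ≫ inv (Limits.cokernel.π ((K.HFil n).fil q0).arrow), fun p => ?_⟩
    let q := max p q0
    have := hiso q (le_max_right _ _)
    have e1 := hπ (le_max_right p q0)
    have : IsIso ((K.HFil n).quotMap (le_max_right p q0)) := IsIso.of_isIso_fac_left e1
    have e2 : f q = (f q0 ≫ inv (cokernel.π ((K.HFil n).fil q0).arrow)) ≫
        cokernel.π ((K.HFil n).fil q).arrow := by
      rw [← cancel_mono ((K.HFil n).quotMap (le_max_right p q0)), hf, Category.assoc,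
        Category.assoc, e1, IsIso.inv_hom_id, Category.comp_id]
    rw [← hf p q (le_max_left _ _), e2]
    simp only [Category.assoc, hπ]

end Groth.Agent.SpFil
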