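import Groth.Prelude.Def_SpSeq
import Groth.Agent.S6801
import Groth.Agent.S6802
import Mathlib.CategoryTheory.Abelian.Refinements
import Mathlib.CategoryTheory.Abelian.CommSq

/-! Pushouts and pullbacks of filtered objects of an abelian category. -/

set_option autoImplicit false
set_option backward.isDefEq.respectTransparency false

universe v u

open CategoryTheory CategoryTheory.Limits

namespace Groth.Agent.SpFil

variable {A : Type u} [Category.{v} A] [Abelian A]

theorem factors_pullback_iff {X Y W : A} (h : X ⟶ Y) (T : Subobject Y) (x : W ⟶ X) :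
    ((Subobject.pullback h).obj T).Factors x ↔ T.Factors (x ≫ h) := by
  constructor
  · intro hx
    refine (Subobject.factors_iff _ _).2 ⟨((Subobject.pullback h).obj T).factorThru x hx ≫ Subobject.pullbackπ h T, ?_⟩
    change (_ ≫ _) ≫ T.arrow = _
    rw [Category.assoc, (Subobject.isPullback h T).w, ← Category.assoc, Subobject.factorThru_arrow]
  · intro hx
    refine (Subobject.factors_iff _ _).2 ⟨(Subobject.isPullback h T).lift (T.factorThru _ hx) x
      (Subobject.factorThru_arrow _ _ _), ?_⟩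
    exact (Subobject.isPullback h T).lift_snd _ _ _

theorem aux_eq {G : Type*} [AddCommGroup G] (x y : G) : x + (y - (x + y)) = 0 := by abel

theorem le_iff_factors {X : A} (S T : Subobject X) : S ≤ T ↔ T.Factors S.arrow := by
  constructor
  · intro h
    exact Subobject.factors_of_le _ h (Subobject.factors_self _)
  · intro h
    exact Subobject.le_of_comm (T.factorThru _ h) (Subobject.factorThru_arrow _ _ _)

theorem le_pullback_iff {X Y : A} (h : X ⟶ Y) (S : Subobject X) (T : Subobject Y) :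
    S ≤ (Subobject.pullback h).obj T ↔ T.Factors (S.arrow ≫ h) := by
  rw [le_iff_factors, factors_pullback_iff]

theorem image_le_iff {W X : A} (a : W ⟶ X) (T : Subobject X) : imageSubobject a ≤ T ↔ T.Factors a := by
  constructor
  · intro h
    exact Subobject.factors_of_le _ h ((Subobject.factors_iff _ _).2
      ⟨factorThruImageSubobject a, imageSubobject_arrow_comp a⟩)
  · intro h
    exact imageSubobject_le a (T.factorThru a h) (Subobject.factorThru_arrow _ _ _)

theorem exists_lift_image {W X T : A} (a : W ⟶ X) (x : T ⟶ X) (hx : (imageSubobject a).Factors x) :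
    ∃ (T' : A) (π : T' ⟶ T) (_ : Epi π) (y : T' ⟶ W), π ≫ x = y ≫ a := by
  haveI : Epi (factorThruImageSubobject a) := by
    unfold factorThruImageSubobject; exact epi_comp _ _
  obtain ⟨T', π, hπ, y, hy⟩ := surjective_up_to_refinements_of_epi (factorThruImageSubobject a)
    ((imageSubobject a).factorThru x hx)
  refine ⟨T', π, hπ, y, ?_⟩
  rw [← Subobject.factorThru_arrow _ x hx, ← Category.assoc, hy, Category.assoc, imageSubobject_arrow_comp]

theorem le_image_of_lift {W X : A} (a : W ⟶ X) (S : Subobject X)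
    (h : ∃ (T' : A) (π : T' ⟶ (S : A)) (_ : Epi π) (y : T' ⟶ W), π ≫ S.arrow = y ≫ a) :
    S ≤ imageSubobject a := by
  obtain ⟨T', π, hπ, y, hy⟩ := h
  have h1 : S = imageSubobject S.arrow := by rw [imageSubobject_mono, Subobject.mk_arrow]
  have h2 : imageSubobject (π ≫ S.arrow) = imageSubobject S.arrow := by
    have hle := imageSubobject_comp_le π S.arrow
    haveI := isIso_of_mono_of_epi (Subobject.ofLE _ _ hle)
    exact le_antisymm hle (Subobject.le_of_comm (inv (Subobject.ofLE _ _ hle)) (by simp))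
  rw [h1, ← h2, hy]
  exact imageSubobject_comp_le y a

theorem strict_of_le {K L : SpSeq.FilObj A} (f : K ⟶ L)
    (h : ∀ p : ℤ, imageSubobject f.hom ⊓ L.fil p ≤ imageSubobject ((K.fil p).arrow ≫ f.hom)) :
    SpSeq.FilObj.IsStrict f := fun p =>
  le_antisymm (le_inf (imageSubobject_comp_le _ _)
    ((image_le_iff _ _).2 ((le_pullback_iff _ _ _).1 (f.compat p)))) (h p)

theorem isStrict_iso {K L : SpSeq.FilObj A} (e : K ≅ L) : SpSeq.FilObj.IsStrict e.hom := by
  refine strict_of_le _ fun p => inf_le_right.trans (le_image_of_lift _ _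
    ⟨_, 𝟙 _, inferInstance, (K.fil p).factorThru _ ((le_pullback_iff _ _ _).1 (e.inv.compat p)), ?_⟩)
  rw [Subobject.factorThru_arrow_assoc, Category.id_comp, Category.assoc]
  have h : (e.inv ≫ e.hom).hom = 𝟙 L.obj := by rw [e.inv_hom_id]; rfl
  exact ((congrArg ((L.fil p).arrow ≫ ·) h).trans (Category.comp_id _)).symm

instance mono_iso_hom {K L : SpSeq.FilObj A} (e : K ≅ L) : Mono e.hom.hom :=
  inferInstanceAs (Mono (SpSeq.FilObj.forget.map e.hom))

instance epi_iso_hom {K L : SpSeq.FilObj A} (e : K ≅ L) : Epi e.hom.hom :=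
  inferInstanceAs (Epi (SpSeq.FilObj.forget.map e.hom))

section Pushout

variable {K L M : SpSeq.FilObj A} (f : K ⟶ L) (g : K ⟶ M)

/-- The pushout filtered object. -/
noncomputable abbrev po : SpSeq.FilObj A where
  obj := pushout f.hom g.hom
  fil p := imageSubobject ((L.fil p).arrow ≫ pushout.inl f.hom g.hom) ⊔
    imageSubobject ((M.fil p).arrow ≫ pushout.inr f.hom g.hom)
  anti p q h := sup_le_sup
    (SpSeq.FilCx.imageSubobject_le_of_fac (L.stepLE h) (Subobject.ofLE_arrow_assoc _ _))
    (SpSeq.FilCx.imageSubobject_le_of_fac (M.stepLE h) (Subobject.ofLE_arrow_assoc _ _))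

/-- Left inclusion. -/
noncomputable abbrev poInl : L ⟶ po f g :=
  ⟨pushout.inl f.hom g.hom, fun p => (le_pullback_iff _ _ _).2 ((image_le_iff _ _).1 le_sup_left)⟩

/-- Right inclusion. -/
noncomputable abbrev poInr : M ⟶ po f g :=
  ⟨pushout.inr f.hom g.hom, fun p => (le_pullback_iff _ _ _).2 ((image_le_iff _ _).1 le_sup_right)⟩

theorem isPushout_po : IsPushout f g (poInl f g) (poInr f g) := by
  refine IsPushout.of_isColimit' ⟨SpSeq.FilObj.Hom.ext pushout.condition⟩ (PushoutCocone.IsColimit.mk _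
    (fun s => ⟨pushout.desc s.inl.hom s.inr.hom (congrArg SpSeq.FilObj.Hom.hom s.condition), fun p => ?_⟩)
    (fun s => SpSeq.FilObj.Hom.ext (pushout.inl_desc _ _ _))
    (fun s => SpSeq.FilObj.Hom.ext (pushout.inr_desc _ _ _))
    (fun s m h1 h2 => SpSeq.FilObj.Hom.ext (pushout.hom_ext
      ((congrArg SpSeq.FilObj.Hom.hom h1).trans (pushout.inl_desc _ _ _).symm)
      ((congrArg SpSeq.FilObj.Hom.hom h2).trans (pushout.inr_desc _ _ _).symm))))
  refine sup_le ((image_le_iff _ _).2 ((factors_pullback_iff _ _ _).2 ?_))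
    ((image_le_iff _ _).2 ((factors_pullback_iff _ _ _).2 ?_))
  · rw [Category.assoc, pushout.inl_desc]
    exact (le_pullback_iff _ _ _).1 (s.inl.compat p)
  · rw [Category.assoc, pushout.inr_desc]
    exact (le_pullback_iff _ _ _).1 (s.inr.compat p)

theorem isStrict_poInr (hf : SpSeq.FilObj.IsStrict f) : SpSeq.FilObj.IsStrict (poInr f g) := by
  refine strict_of_le _ fun p => le_image_of_lift _ _ ?_
  set a := (L.fil p).arrow ≫ pushout.inl f.hom g.hom with ha
  set b := (M.fil p).arrow ≫ pushout.inr f.hom g.hom with hb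
  set C := imageSubobject (poInr f g).hom ⊓ (po f g).fil p
  have hC : imageSubobject (pushout.inr f.hom g.hom) ⊓ (imageSubobject a ⊔ imageSubobject b) = C := rfl
  have hx1 : (imageSubobject (pushout.inr f.hom g.hom)).Factors C.arrow :=
    (le_iff_factors _ _).1 inf_le_left
  have hx2 : (imageSubobject (biprod.desc a b)).Factors C.arrow := by
    refine (le_iff_factors _ _).1 (inf_le_right.trans (sup_le ?_ ?_))
    · exact SpSeq.FilCx.imageSubobject_le_of_fac biprod.inl (biprod.inl_desc _ _)
    · exact SpSeq.FilCx.imageSubobject_le_of_fac biprod.inr (biprod.inr_desc _ _)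
  obtain ⟨T₁, π₁, _, m₀, h1⟩ := exists_lift_image _ _ hx1
  obtain ⟨T₂, π₂, _, w, h2⟩ := exists_lift_image _ (π₁ ≫ C.arrow) (Subobject.factors_of_factors_right _ hx2)
  set l := w ≫ biprod.fst
  set m := w ≫ biprod.snd
  have hw : π₂ ≫ m₀ ≫ pushout.inr f.hom g.hom = l ≫ a + m ≫ b := by
    rw [← h1, h2, biprod.desc_eq, Preadditive.comp_add]
    simp [l, m]
  have hS := (IsPushout.of_hasPushout f.hom g.hom).exact_shortComplex
  obtain ⟨T₃, π₃, _, k, hk⟩ := hS.exact_up_to_refinements
    (biprod.lift (l ≫ (L.fil p).arrow) (m ≫ (M.fil p).arrow - π₂ ≫ m₀)) (by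
      simp only [CommSq.shortComplex_g, biprod.lift_desc, Preadditive.sub_comp, Category.assoc]
      rw [hw, ha, hb]
      exact aux_eq _ _)
  have hk1 : π₃ ≫ l ≫ (L.fil p).arrow = k ≫ f.hom := by
    simpa using congrArg (· ≫ biprod.fst) hk
  have hk2 : π₃ ≫ (m ≫ (M.fil p).arrow - π₂ ≫ m₀) = -(k ≫ g.hom) := by
    simpa using congrArg (· ≫ biprod.snd) hk
  have hkf : (imageSubobject ((K.fil p).arrow ≫ f.hom)).Factors (k ≫ f.hom) := by
    rw [hf p, Subobject.inf_factors]
    refine ⟨Subobject.factors_of_factors_right _ ((image_le_iff _ _).1 le_rfl), ?_⟩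
    rw [← hk1, ← Category.assoc]
    exact Subobject.factors_comp_arrow _
  obtain ⟨T₄, π₄, _, k', hk'⟩ := exists_lift_image _ _ hkf
  refine ⟨T₄, π₄ ≫ π₃ ≫ π₂ ≫ π₁, inferInstance,
    π₄ ≫ π₃ ≫ m + k' ≫ (M.fil p).factorThru _ ((le_pullback_iff _ _ _).1 (g.compat p)), ?_⟩
  have hk'' : π₄ ≫ π₃ ≫ l ≫ (L.fil p).arrow = k' ≫ (K.fil p).arrow ≫ f.hom := by rw [hk1, hk']
  calc (π₄ ≫ π₃ ≫ π₂ ≫ π₁) ≫ C.arrow = π₄ ≫ π₃ ≫ (l ≫ a + m ≫ b) := by
        rw [← hw, ← h1]; simp only [Category.assoc]
    _ = k' ≫ (K.fil p).arrow ≫ g.hom ≫ pushout.inr f.hom g.hom + π₄ ≫ π₃ ≫ m ≫ b := by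
        simp only [Preadditive.comp_add, ha]
        rw [reassoc_of% hk'', pushout.condition]
    _ = _ := by
        simp only [Preadditive.add_comp, Category.assoc, hb, poInr]
        rw [Subobject.factorThru_arrow_assoc]
        simp only [Category.assoc]
        exact add_comm _ _

end Pushout

section Pullback

variable {K L M : SpSeq.FilObj A} (f : L ⟶ K) (g : M ⟶ K)

/-- The pullback filtered object. -/
noncomputable abbrev pb : SpSeq.FilObj A where
  obj := pullback f.hom g.hom
  fil p := (Subobject.pullback (pullback.fst f.hom g.hom)).obj (L.fil p) ⊓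
    (Subobject.pullback (pullback.snd f.hom g.hom)).obj (M.fil p)
  anti p q h := inf_le_inf ((Subobject.pullback _).map (homOfLE (L.anti h))).le
    ((Subobject.pullback _).map (homOfLE (M.anti h))).le

/-- Left projection. -/
noncomputable abbrev pbFst : pb f g ⟶ L := ⟨pullback.fst f.hom g.hom, fun _ => inf_le_left⟩

/-- Right projection. -/
noncomputable abbrev pbSnd : pb f g ⟶ M := ⟨pullback.snd f.hom g.hom, fun _ => inf_le_right⟩

theorem isPullback_pb : IsPullback (pbFst f g) (pbSnd f g) f g := by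
  refine IsPullback.of_isLimit' ⟨SpSeq.FilObj.Hom.ext pullback.condition⟩ (PullbackCone.IsLimit.mk _
    (fun s => ⟨pullback.lift s.fst.hom s.snd.hom (congrArg SpSeq.FilObj.Hom.hom s.condition), fun p => ?_⟩)
    (fun s => SpSeq.FilObj.Hom.ext (pullback.lift_fst _ _ _))
    (fun s => SpSeq.FilObj.Hom.ext (pullback.lift_snd _ _ _))
    (fun s m h1 h2 => SpSeq.FilObj.Hom.ext (pullback.hom_ext
      ((congrArg SpSeq.FilObj.Hom.hom h1).trans (pullback.lift_fst _ _ _).symm)
      ((congrArg SpSeq.FilObj.Hom.hom h2).trans (pullback.lift_snd _ _ _).symm))))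
  refine (le_pullback_iff _ _ _).2 ((Subobject.inf_factors _).2
    ⟨(factors_pullback_iff _ _ _).2 ?_, (factors_pullback_iff _ _ _).2 ?_⟩)
  · rw [Category.assoc, pullback.lift_fst]
    exact (le_pullback_iff _ _ _).1 (s.fst.compat p)
  · rw [Category.assoc, pullback.lift_snd]
    exact (le_pullback_iff _ _ _).1 (s.snd.compat p)

theorem isStrict_pbSnd (hf : SpSeq.FilObj.IsStrict f) : SpSeq.FilObj.IsStrict (pbSnd f g) := by
  refine strict_of_le _ fun p => le_image_of_lift _ _ ?_
  set C := imageSubobject (pbSnd f g).hom ⊓ M.fil p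
  have hx1 : (imageSubobject (pullback.snd f.hom g.hom)).Factors C.arrow :=
    (le_iff_factors _ _).1 inf_le_left
  have hx2 : (M.fil p).Factors C.arrow := (le_iff_factors _ _).1 inf_le_right
  obtain ⟨T₁, π₁, _, y, h1⟩ := exists_lift_image _ _ hx1
  have hy : (imageSubobject ((L.fil p).arrow ≫ f.hom)).Factors (y ≫ pullback.fst f.hom g.hom ≫ f.hom) := by
    rw [hf p, Subobject.inf_factors]
    refine ⟨?_, ?_⟩
    · rw [← Category.assoc]
      exact Subobject.factors_of_factors_right _ ((image_le_iff _ _).1 le_rfl)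
    · rw [pullback.condition, ← Category.assoc, ← h1, Category.assoc]
      refine Subobject.factors_of_factors_right _ ?_
      rw [← Subobject.factorThru_arrow _ _ hx2, Category.assoc]
      exact Subobject.factors_of_factors_right _ ((le_pullback_iff _ _ _).1 (g.compat p))
  obtain ⟨T₂, π₂, _, l, h2⟩ := exists_lift_image _ _ hy
  have hw : (l ≫ (L.fil p).arrow) ≫ f.hom = (π₂ ≫ π₁ ≫ C.arrow) ≫ g.hom := by
    rw [Category.assoc, ← h2, pullback.condition, h1]
    simp only [Category.assoc]
  set z := pullback.lift _ _ hw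
  have hz : ((pb f g).fil p).Factors z := by
    refine (Subobject.inf_factors _).2 ⟨(factors_pullback_iff _ _ _).2 ?_, (factors_pullback_iff _ _ _).2 ?_⟩
    · rw [pullback.lift_fst]
      exact Subobject.factors_comp_arrow _
    · rw [pullback.lift_snd, ← Category.assoc]
      exact Subobject.factors_of_factors_right _ hx2
  refine ⟨T₂, π₂ ≫ π₁, inferInstance, ((pb f g).fil p).factorThru z hz, ?_⟩
  rw [Subobject.factorThru_arrow_assoc, Category.assoc]
  exact (pullback.lift_snd _ _ _).symm

end Pullback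

theorem hasPushout_and_isStrict {K L M : SpSeq.FilObj A} (f : K ⟶ L) (g : K ⟶ M) :
    HasPushout f g ∧ ∀ (P : SpSeq.FilObj A) (g' : L ⟶ P) (f' : M ⟶ P), IsPushout f g g' f' →
      SpSeq.FilObj.IsStrict f → SpSeq.FilObj.IsStrict f' := by
  refine ⟨(isPushout_po f g).hasPushout, fun P g' f' h hf => ?_⟩
  let e := (isPushout_po f g).isoIsPushout _ _ h
  rw [← (isPushout_po f g).inr_isoIsPushout_hom _ _ h]
  exact S6801.result _ _ (isStrict_poInr f g hf) (isStrict_iso e)

theorem hasPullback_and_isStrict {K L M : SpSeq.FilObj A} (f : L ⟶ K) (g : M ⟶ K) :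
    HasPullback f g ∧ ∀ (P : SpSeq.FilObj A) (g' : P ⟶ L) (f' : P ⟶ M), IsPullback g' f' f g →
      SpSeq.FilObj.IsStrict f → SpSeq.FilObj.IsStrict f' := by
  refine ⟨(isPullback_pb f g).hasPullback, fun P g' f' h hf => ?_⟩
  let e := h.isoIsPullback _ _ (isPullback_pb f g)
  rw [← h.isoIsPullback_hom_snd _ _ (isPullback_pb f g)]
  exact S6802.result _ _ (isStrict_iso e) (isStrict_pbSnd f g hf)

end Groth.Agent.SpFil
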