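import Groth.Agent.SpFil.Basic
import Mathlib.Algebra.Homology.ExactSequence

/-! Subquotients `Z / B` in abelian categories, membership up to refinement, weak Serre classes. -/

set_option autoImplicit false
set_option backward.isDefEq.respectTransparency false

universe v u

open CategoryTheory CategoryTheory.Limits

namespace Groth.Agent.SpFil

variable {A : Type u} [Category.{v} A] [Abelian A] {X Y : A}

theorem mem_of_refine (S : Subobject X) {T T' : A} (π : T' ⟶ T) [Epi π] (x : T ⟶ X)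
    (h : S.Factors (π ≫ x)) : S.Factors x := by
  refine (image_le_iff _ _).1 ?_
  have hle := imageSubobject_comp_le π x
  haveI := isIso_of_mono_of_epi (Subobject.ofLE _ _ hle)
  have h2 : imageSubobject x ≤ imageSubobject (π ≫ x) :=
    Subobject.le_of_comm (inv (Subobject.ofLE _ _ hle)) (by simp)
  exact h2.trans ((image_le_iff _ _).2 h)

theorem le_of_mem {S S' : Subobject X} (h : ∀ {T : A} (x : T ⟶ X), S.Factors x → S'.Factors x) : S ≤ S' :=
  (le_iff_factors _ _).2 (h _ (Subobject.factors_self _))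

theorem mem_sup_left {S : Subobject X} (S' : Subobject X) {T : A} {x : T ⟶ X} (h : S.Factors x) :
    (S ⊔ S').Factors x := Subobject.factors_of_le _ le_sup_left h

theorem mem_sup_right (S : Subobject X) {S' : Subobject X} {T : A} {x : T ⟶ X} (h : S'.Factors x) :
    (S ⊔ S').Factors x := Subobject.factors_of_le _ le_sup_right h

theorem mem_sub (S : Subobject X) {T : A} {x y : T ⟶ X} (hx : S.Factors x) (hy : S.Factors y) :
    S.Factors (x - y) := (Subobject.factors_iff _ _).2 ⟨S.factorThru x hx - S.factorThru y hy, by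
      change (_ - _) ≫ S.arrow = _
      rw [Preadditive.sub_comp, Subobject.factorThru_arrow, Subobject.factorThru_arrow]⟩

theorem mem_add (S : Subobject X) {T : A} {x y : T ⟶ X} (hx : S.Factors x) (hy : S.Factors y) :
    S.Factors (x + y) := Subobject.factors_add _ _ hx hy

theorem mem_comp (S : Subobject X) {T T' : A} (π : T' ⟶ T) {x : T ⟶ X} (hx : S.Factors x) :
    S.Factors (π ≫ x) := Subobject.factors_of_factors_right _ hx

theorem exists_mem_sup {S S' : Subobject X} {T : A} (x : T ⟶ X) (hx : (S ⊔ S').Factors x) :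
    ∃ (T' : A) (π : T' ⟶ T) (_ : Epi π) (a b : T' ⟶ X),
      S.Factors a ∧ S'.Factors b ∧ π ≫ x = a + b := by
  have hle : S ⊔ S' ≤ imageSubobject (biprod.desc S.arrow S'.arrow) := by
    refine sup_le ?_ ?_
    · exact le_of_mem fun y hy => Subobject.factors_of_le _ le_rfl ((Subobject.factors_iff _ _).2
        ⟨(S.factorThru y hy ≫ biprod.inl) ≫ factorThruImageSubobject _, by
          change (_ ≫ _) ≫ Subobject.arrow _ = _
          simp⟩)
    · exact le_of_mem fun y hy => Subobject.factors_of_le _ le_rfl ((Subobject.factors_iff _ _).2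
        ⟨(S'.factorThru y hy ≫ biprod.inr) ≫ factorThruImageSubobject _, by
          change (_ ≫ _) ≫ Subobject.arrow _ = _
          simp⟩)
  obtain ⟨T', π, hπ, w, hw⟩ := exists_lift_image _ x (Subobject.factors_of_le _ hle hx)
  exact ⟨T', π, hπ, (w ≫ biprod.fst) ≫ S.arrow, (w ≫ biprod.snd) ≫ S'.arrow,
    Subobject.factors_comp_arrow _, Subobject.factors_comp_arrow _,
    hw.trans (by simp [biprod.desc_eq, Preadditive.comp_add])⟩

theorem exists_mem_image {S : Subobject X} (f : X ⟶ Y) {T : A} (y : T ⟶ Y)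
    (hy : (imageSubobject (S.arrow ≫ f)).Factors y) :
    ∃ (T' : A) (π : T' ⟶ T) (_ : Epi π) (x : T' ⟶ X), S.Factors x ∧ π ≫ y = x ≫ f := by
  obtain ⟨T', π, hπ, w, hw⟩ := exists_lift_image _ y hy
  exact ⟨T', π, hπ, w ≫ S.arrow, Subobject.factors_comp_arrow _, by rw [hw, Category.assoc]⟩

theorem mem_image {S : Subobject X} (f : X ⟶ Y) {T : A} {x : T ⟶ X} (hx : S.Factors x) :
    (imageSubobject (S.arrow ≫ f)).Factors (x ≫ f) := by
  rw [← Subobject.factorThru_arrow _ x hx, Category.assoc]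
  exact mem_comp _ _ ((image_le_iff _ _).1 le_rfl)

theorem mem_bot {T : A} {x : T ⟶ X} (hx : (⊥ : Subobject X).Factors x) : x = 0 := by
  rw [← Subobject.factorThru_arrow _ x hx, Subobject.bot_arrow, comp_zero]

theorem mem_kernel {f : X ⟶ Y} {T : A} {x : T ⟶ X} : (kernelSubobject f).Factors x ↔ x ≫ f = 0 := by
  constructor
  · intro hx
    rw [← Subobject.factorThru_arrow _ x hx, Category.assoc, kernelSubobject_arrow_comp, comp_zero]
  · exact kernelSubobject_factors _ _

/-- `f` maps `S` into `S'`. -/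
def MapsTo (f : X ⟶ Y) (S : Subobject X) (S' : Subobject Y) : Prop :=
  ∀ {T : A} (x : T ⟶ X), S.Factors x → S'.Factors (x ≫ f)

theorem mapsTo_id {S S' : Subobject X} (h : S ≤ S') : MapsTo (𝟙 X) S S' := fun x hx => by
  rw [Category.comp_id]
  exact Subobject.factors_of_le _ h hx

/-- The map of subquotients. -/
noncomputable def sqMap (f : X ⟶ Y) {Z B : Subobject X} (h : B ≤ Z) {Z' B' : Subobject Y} (h' : B' ≤ Z')
    (hZ : MapsTo f Z Z') (hB : MapsTo f B B') : SpSeq.subquot Z B h ⟶ SpSeq.subquot Z' B' h' :=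
  cokernel.map (B.ofLE Z h) (B'.ofLE Z' h') (B'.factorThru _ (hB _ (Subobject.factors_self B)))
    (Z'.factorThru _ (hZ _ (Subobject.factors_self Z)))
    ((cancel_mono Z'.arrow).1 (by simp))

/-- The projection `Z ⟶ Z / B`. -/
noncomputable def sqProj {Z B : Subobject X} (h : B ≤ Z) : (Z : A) ⟶ SpSeq.subquot Z B h :=
  cokernel.π (B.ofLE Z h)

instance {Z B : Subobject X} (h : B ≤ Z) : Epi (sqProj h) := inferInstanceAs (Epi (cokernel.π _))

theorem sqProj_eq_zero_iff {Z B : Subobject X} (h : B ≤ Z) {T : A} (z : T ⟶ Z) :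
    z ≫ sqProj h = 0 ↔ B.Factors (z ≫ Z.arrow) := by
  constructor
  · intro hz
    obtain ⟨T', π, hπ, b, hb⟩ := (ShortComplex.exact_of_g_is_cokernel
      (ShortComplex.mk (B.ofLE Z h) (cokernel.π _) (cokernel.condition _))
      (cokernelIsCokernel _)).exact_up_to_refinements z hz
    refine mem_of_refine _ π _ ?_
    rw [← Category.assoc, hb, Category.assoc, Subobject.ofLE_arrow]
    exact Subobject.factors_comp_arrow _
  · intro hz
    have : z = B.factorThru _ hz ≫ B.ofLE Z h := (cancel_mono Z.arrow).1 (by simp)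
    rw [this, Category.assoc, sqProj, cokernel.condition, comp_zero]

theorem sqProj_map (f : X ⟶ Y) {Z B : Subobject X} (h : B ≤ Z) {Z' B' : Subobject Y} (h' : B' ≤ Z')
    (hZ : MapsTo f Z Z') (hB : MapsTo f B B') :
    sqProj h ≫ sqMap f h h' hZ hB = Z'.factorThru _ (hZ _ (Subobject.factors_self Z)) ≫ sqProj h' :=
  cokernel.π_desc _ _ _

theorem mono_sqMap (f : X ⟶ Y) {Z B : Subobject X} (h : B ≤ Z) {Z' B' : Subobject Y} (h' : B' ≤ Z')
    (hZ : MapsTo f Z Z') (hB : MapsTo f B B')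
    (hyp : ∀ {T : A} (x : T ⟶ X), Z.Factors x → B'.Factors (x ≫ f) → B.Factors x) :
    Mono (sqMap f h h' hZ hB) := by
  rw [Preadditive.mono_iff_cancel_zero]
  intro T t ht
  obtain ⟨T', π, hπ, z, hz⟩ := surjective_up_to_refinements_of_epi (sqProj h) t
  have h1 : (z ≫ Z'.factorThru _ (hZ _ (Subobject.factors_self Z))) ≫ sqProj h' = 0 := by
    rw [Category.assoc, ← sqProj_map f h h' hZ hB, ← reassoc_of% hz, ht, comp_zero]
  rw [sqProj_eq_zero_iff, Category.assoc, Subobject.factorThru_arrow, ← Category.assoc] at h1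
  have h2 : z ≫ sqProj h = 0 := (sqProj_eq_zero_iff h z).2 (hyp _ (Subobject.factors_comp_arrow _) h1)
  exact (cancel_epi π).1 (by rw [hz, h2, comp_zero])

theorem epi_sqMap (f : X ⟶ Y) {Z B : Subobject X} (h : B ≤ Z) {Z' B' : Subobject Y} (h' : B' ≤ Z')
    (hZ : MapsTo f Z Z') (hB : MapsTo f B B')
    (hyp : ∀ {T : A} (y : T ⟶ Y), Z'.Factors y → ∃ (T' : A) (π : T' ⟶ T) (_ : Epi π) (x : T' ⟶ X),
      Z.Factors x ∧ B'.Factors (π ≫ y - x ≫ f)) :
    Epi (sqMap f h h' hZ hB) := by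
  rw [epi_iff_surjective_up_to_refinements]
  intro T t
  obtain ⟨T₁, π₁, _, z, hz⟩ := surjective_up_to_refinements_of_epi (sqProj h') t
  obtain ⟨T₂, π₂, _, x, hx, hb⟩ := hyp (z ≫ Z'.arrow) (Subobject.factors_comp_arrow _)
  refine ⟨T₂, π₂ ≫ π₁, inferInstance, Z.factorThru x hx ≫ sqProj h, ?_⟩
  rw [Category.assoc, Category.assoc, hz, sqProj_map, ← sub_eq_zero, ← Category.assoc π₂, ← Category.assoc (Z.factorThru x hx),
    ← Preadditive.sub_comp, sqProj_eq_zero_iff]
  simpa using hb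

theorem isIso_sqMap (f : X ⟶ Y) {Z B : Subobject X} (h : B ≤ Z) {Z' B' : Subobject Y} (h' : B' ≤ Z')
    (hZ : MapsTo f Z Z') (hB : MapsTo f B B')
    (hyp : ∀ {T : A} (x : T ⟶ X), Z.Factors x → B'.Factors (x ≫ f) → B.Factors x)
    (hyp' : ∀ {T : A} (y : T ⟶ Y), Z'.Factors y → ∃ (T' : A) (π : T' ⟶ T) (_ : Epi π) (x : T' ⟶ X),
      Z.Factors x ∧ B'.Factors (π ≫ y - x ≫ f)) :
    IsIso (sqMap f h h' hZ hB) := by
  haveI := mono_sqMap f h h' hZ hB @hyp
  haveI := epi_sqMap f h h' hZ hB @hyp'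
  exact isIso_of_mono_of_epi _

theorem isZero_subquot_iff {Z B : Subobject X} (h : B ≤ Z) : IsZero (SpSeq.subquot Z B h) ↔ Z ≤ B := by
  constructor
  · intro hz
    have := (sqProj_eq_zero_iff h (𝟙 _)).1 (hz.eq_of_tgt _ _)
    exact (le_iff_factors _ _).2 (by simpa using this)
  · intro hle
    obtain rfl := le_antisymm hle h
    haveI : Epi (Z.ofLE Z h) := by rw [Subobject.ofLE_refl]; infer_instance
    exact isZero_cokernel_of_epi _

/-- The third isomorphism sequence `0 → B/A → C/A → C/B → 0`. -/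
theorem third_iso {P Q R : Subobject X} (h₁ : P ≤ Q) (h₂ : Q ≤ R) :
    ∃ w, (ShortComplex.mk
      (sqMap (𝟙 X) h₁ (h₁.trans h₂) (mapsTo_id h₂) (mapsTo_id le_rfl))
      (sqMap (𝟙 X) (h₁.trans h₂) h₂ (mapsTo_id le_rfl) (mapsTo_id h₁)) w).ShortExact := by
  refine ⟨?_, ?_⟩
  · rw [← cancel_epi (sqProj h₁), comp_zero, ← Category.assoc, sqProj_map, Category.assoc, sqProj_map,
      ← Category.assoc, sqProj_eq_zero_iff]
    simp [Subobject.factors_self]
  · refine { exact := ?_, mono_f := ?_, epi_g := ?_ }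
    · rw [ShortComplex.exact_iff_exact_up_to_refinements]
      intro T t ht
      obtain ⟨T₁, π₁, _, z, hz⟩ := surjective_up_to_refinements_of_epi (sqProj (h₁.trans h₂)) t
      dsimp at t ht hz ⊢
      have h3 : (z ≫ R.factorThru _ (mapsTo_id le_rfl R.arrow (Subobject.factors_self R))) ≫ sqProj h₂ = 0 := by
        rw [Category.assoc, ← sqProj_map (𝟙 X) (h₁.trans h₂) h₂ _ (mapsTo_id h₁), ← reassoc_of% hz, ht, comp_zero]
      rw [sqProj_eq_zero_iff, Category.assoc, Subobject.factorThru_arrow, Category.comp_id] at h3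
      refine ⟨T₁, π₁, inferInstance, Q.factorThru _ h3 ≫ sqProj h₁, ?_⟩
      rw [hz, Category.assoc, sqProj_map, ← Category.assoc]
      congr 1
      exact (cancel_mono R.arrow).1 (by simp)
    · exact mono_sqMap (𝟙 X) h₁ (h₁.trans h₂) (mapsTo_id h₂) (mapsTo_id le_rfl) fun x _ h => by simpa using h
    · refine epi_sqMap (𝟙 X) (h₁.trans h₂) h₂ (mapsTo_id le_rfl) (mapsTo_id h₁) fun {T} y hy => ⟨T, 𝟙 _, inferInstance, y, hy, ?_⟩
      simp [Subobject.factors_zero]

/-- Consequences of the weak Serre class axiom. -/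
structure WeakSerre (P : ObjectProperty A) : Prop where
  zero : ∀ Z : A, IsZero Z → P Z
  iso : ∀ {X Y : A}, (X ≅ Y) → P X → P Y
  ker : ∀ (S : ShortComplex A), S.ShortExact → P S.X₂ → P S.X₃ → P S.X₁
  coker : ∀ (S : ShortComplex A), S.ShortExact → P S.X₁ → P S.X₂ → P S.X₃
  ext : ∀ (S : ShortComplex A), S.ShortExact → P S.X₁ → P S.X₃ → P S.X₂
  sub_and_quot : ∀ {X Y Q : A} (p : X ⟶ Q) (i : Q ⟶ Y), Epi p → Mono i → P X → P Y → P Q

open ComposableArrows in
theorem weakSerre_of (P : ObjectProperty A) [P.IsClosedUnderIsomorphisms] (h0 : ∃ Z : A, IsZero Z ∧ P Z)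
    (hP : ∀ S : ComposableArrows A 4, S.Exact → P (S.obj 0) → P (S.obj 1) → P (S.obj 3) → P (S.obj 4) → P (S.obj 2)) :
    WeakSerre P := by
  obtain ⟨O, hO, hPO⟩ := h0
  have hz : ∀ Z : A, IsZero Z → P Z := fun Z hZ => P.prop_of_iso (hO.iso hZ) hPO
  have five : ∀ {a b c d e : A} (f₁ : a ⟶ b) (f₂ : b ⟶ c) (f₃ : c ⟶ d) (f₄ : d ⟶ e)
      (w₁ : f₁ ≫ f₂ = 0) (w₂ : f₂ ≫ f₃ = 0) (w₃ : f₃ ≫ f₄ = 0),
      (ShortComplex.mk _ _ w₁).Exact → (ShortComplex.mk _ _ w₂).Exact → (ShortComplex.mk _ _ w₃).Exact →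
      P a → P b → P d → P e → P c := by
    intro a b c d e f₁ f₂ f₃ f₄ w₁ w₂ w₃ e₁ e₂ e₃ ha hb hd he
    exact hP (mk₄ f₁ f₂ f₃ f₄)
      (exact_of_δ₀ e₁.exact_toComposableArrows
        (exact_of_δ₀ e₂.exact_toComposableArrows e₃.exact_toComposableArrows)) ha hb hd he
  have kerP : ∀ {X Y : A} (f : X ⟶ Y), P X → P Y → P (kernel f) := fun {X Y} f hX hY =>
    five (0 : O ⟶ O) (0 : O ⟶ kernel f) (kernel.ι f) f (by simp) (by simp) (kernel.condition f)
      (ShortComplex.exact_of_isZero_X₂ _ hO)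
      ((ShortComplex.exact_iff_mono _ rfl).2 inferInstance)
      (ShortComplex.exact_of_f_is_kernel _ (kernelIsKernel f)) hPO hPO hX hY
  have cokP : ∀ {X Y : A} (f : X ⟶ Y), P X → P Y → P (cokernel f) := fun {X Y} f hX hY =>
    five f (cokernel.π f) (0 : cokernel f ⟶ O) (0 : O ⟶ O) (cokernel.condition f) (by simp) (by simp)
      (ShortComplex.exact_of_g_is_cokernel _ (cokernelIsCokernel f))
      ((ShortComplex.exact_iff_epi _ rfl).2 inferInstance)
      (ShortComplex.exact_of_isZero_X₂ _ hO) hX hY hPO hPO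
  refine ⟨hz, fun e h => P.prop_of_iso e h, ?_, ?_, ?_, ?_⟩
  · intro S hS h2 h3
    haveI := hS.mono_f
    exact P.prop_of_iso ((kernelIsKernel S.g).conePointUniqueUpToIso hS.exact.fIsKernel) (kerP S.g h2 h3)
  · intro S hS h1 h2
    haveI := hS.epi_g
    exact P.prop_of_iso ((cokernelIsCokernel S.f).coconePointUniqueUpToIso hS.exact.gIsCokernel) (cokP S.f h1 h2)
  · intro S hS h1 h3
    haveI := hS.mono_f
    haveI := hS.epi_g
    exact five (0 : O ⟶ S.X₁) S.f S.g (0 : S.X₃ ⟶ O) (by simp) S.zero (by simp)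
      ((ShortComplex.exact_iff_mono _ rfl).2 inferInstance) hS.exact
      ((ShortComplex.exact_iff_epi _ rfl).2 inferInstance) hPO h1 h3 hPO
  · intro X Y Q p i hp hi hX hY
    have hk : P (kernel (p ≫ i)) := kerP _ hX hY
    have w : kernel.ι (p ≫ i) ≫ p = 0 := by
      rw [← cancel_mono i, Category.assoc, kernel.condition, zero_comp]
    refine P.prop_of_iso ((cokernelIsCokernel (kernel.ι (p ≫ i))).coconePointUniqueUpToIso
      (ShortComplex.Exact.gIsCokernel (S := ShortComplex.mk _ p w) ?_)) (cokP _ hk hX)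
    exact ShortComplex.exact_of_f_is_kernel _
      (isKernelOfComp (f := p) i (p ≫ i) (kernelIsKernel (p ≫ i)) w rfl)

end Groth.Agent.SpFil
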